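import Cfsg.Agent.H62.Bender.Assembly
import Cfsg.Agent.H62.Bender.Lambda.Main
import Cfsg.Agent.H62.Bender.Lambda.Child
import Cfsg.Agent.H62.Bender.Lambda.FieldPrimeProof

/-!
The odd core theorem from the two remaining inputs.
-/

set_option autoImplicit false

namespace Cfsg.Agent.H62.Bender

open Subgroup MulAction
open Cfsg.Agent.H39
open Cfsg.Agent.H73.Bender
open Cfsg.Agent.Cores.SE

universe u

/-- LAMBDA from the normal subgroup input. -/
theorem lambdaThm_of_normalSub (hnormal : Lambda.Targets.NormalSub.{u}) :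
    Lambda.Targets.LambdaThm.{u} :=
  Lambda.lambdaThm_of Lambda.fieldPrime hnormal
    fun _ _ _ _ _ _ _ _ _ _ _ hall ih h => Lambda.child hall ih h

end Cfsg.Agent.H62.Bender
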