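import Cfsg.Agent.H62.Bender.LambdaClose
import Cfsg.Agent.H62.Bender.Lambda.Normal
import Cfsg.Agent.H35.Bender.H1Descent

/-!
The odd core theorem, unconditionally.
-/

set_option autoImplicit false

namespace Cfsg.Agent.H62.Bender

open Subgroup MulAction
open Cfsg.Agent.H39
open Cfsg.Agent.H73.Bender
open Cfsg.Agent.Cores.SE

universe u

/-- LAMBDA. -/
theorem lambdaThm : Lambda.Targets.LambdaThm.{u} := lambdaThm_of_normalSub Lambda.normalSub

/-- The first half of the odd core theorem. -/
theorem h1All : H1All.{u} :=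
  fun G _ _ Ω _ _ S C hall hS h2 hF hG _ _ _ hc R hR hRodd hRn hR1 hRab hmin =>
    H35.Bender.twoCentral_of_lambda lambdaThm hall hS h2 hF hG
      (fun T C' _ hlt => hall G Ω T C' hlt) hc hR hRodd hRn hR1 hRab
      (fun R' h1 h3 h4 => hmin R' h1 h4 h3)

/-- The relative odd core theorem. -/
theorem coreAt {G : Type u} [Group G] [Finite G] {Ω : Type u} [MulAction G Ω] [Finite Ω]
    (S : Subgroup G) (C : Set Ω) : CoreAt S C :=
  coreAt_all h1All _ G Ω S C rfl

end Cfsg.Agent.H62.Bender
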