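import Cfsg.Agent.Cores.SE.CoreAssembly
import Cfsg.Agent.H10.SECount.InertiaStep
import Cfsg.Agent.H62.Bender.Lambda.Statement

/-!
The odd core theorem from the first half, the latter being allowed the odd core statement for all
smaller groups.
-/

set_option autoImplicit false
set_option linter.style.haveILetI false

namespace Cfsg.Agent.H62.Bender

open Subgroup MulAction
open Cfsg.Agent.H39
open Cfsg.Agent.H73.Bender
open Cfsg.Agent.Cores.SE
open Cfsg.Agent.H62.Bender.Lambda (CoreAll)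

universe u

/-- The first half, with the statement for all smaller groups. -/
def H1All : Prop :=
  ∀ (G : Type u) [Group G] [Finite G] (Ω : Type u) [MulAction G Ω] [Finite Ω] (S : Subgroup G)
    (C : Set Ω), CoreAll.{u} (Nat.card S) → SE S C → RankTwo S → Faithful S C → Good S C →
    TwoTrans S C → (∀ N : Subgroup G, N ≤ S → S ≤ normalizer (N : Set G) → N = ⊥ ∨ N = S) →
    ∀ c ∈ C, ∀ R : Subgroup G, R ≤ ptStab S c → Odd (Nat.card R) →
      ptStab S c ≤ normalizer (R : Set G) → R ≠ ⊥ → IsMulCommutative R →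
      (∀ R' : Subgroup G, R' ≤ R → R' ≠ ⊥ → ptStab S c ≤ normalizer (R' : Set G) → R' = R) →
      ∀ v ∈ ptStab S c, (∃ k, orderOf v = 2 ^ k) →
        ∀ t ∈ S, orderOf t = 2 → t • c = c → Commute v t

/-- A faithful action with the statement known for all smaller groups. -/
theorem eq_bot_of_coreAll (h1 : H1All.{u}) {G : Type u} [Group G] [Finite G] {Ω : Type u}
    [MulAction G Ω] [Finite Ω] {S : Subgroup G} {C : Set Ω} (hall : CoreAll.{u} (Nat.card S))
    (hS : SE S C) (h2 : RankTwo S) (hF : Faithful S C) (hG : Good S C) {c : Ω} (hc : c ∈ C)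
    {W : Subgroup G} (hW : W ≤ ptStab S c) (hWodd : Odd (Nat.card W))
    (hWn : ptStab S c ≤ normalizer (W : Set G)) : W = ⊥ := by
  refine eq_bot_of_generated ?_ (fun T C' _ hlt => hall G Ω T C' hlt) hS h2 hF hG hc hW hWodd hWn
  intro S₀ hle hIH hS₀ h2₀ hF₀ hG₀ h2T _ hsimple d hd W hW hWodd hWn
  by_contra hW1
  have hall₀ : CoreAll.{u} (Nat.card S₀) := fun G' _ _ Ω' _ _ T C' hlt =>
    hall G' Ω' T C' (hlt.trans_le (Nat.le_of_dvd Nat.card_pos (card_dvd_of_le hle)))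
  obtain ⟨R₀, hR₀W, hR₀1, hR₀ab, hR₀n⟩ := exists_abelian_normal hWodd hW1
  let P : Subgroup G → Prop := fun R =>
    R ≤ R₀ ∧ R ≠ ⊥ ∧ ptStab S₀ d ≤ normalizer (R : Set G)
  obtain ⟨R, ⟨hRR, hR1, hRn⟩, hmin⟩ := Set.Finite.exists_minimalFor id {R | P R} (Set.toFinite _)
    ⟨R₀, le_rfl, hR₀1, hWn.trans hR₀n⟩
  have hR : R ≤ ptStab S₀ d := (hRR.trans hR₀W).trans hW
  have hRodd : Odd (Nat.card R) := hWodd.of_dvd_nat (card_dvd_of_le (hRR.trans hR₀W))
  have hRab : IsMulCommutative R := ⟨⟨fun a b => Subtype.ext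
    (congrArg (Subtype.val : R₀ → G) (hR₀ab.is_comm.comm ⟨a, hRR a.2⟩ ⟨b, hRR b.2⟩))⟩⟩
  have hminR : ∀ R' : Subgroup G, R' ≤ R → R' ≠ ⊥ → ptStab S₀ d ≤ normalizer (R' : Set G) → R' = R :=
    fun R' hle' hne hn => le_antisymm hle' (hmin ⟨hle'.trans hRR, hne, hn⟩ hle')
  have hH1 := h1 G Ω S₀ C hall₀ hS₀ h2₀ hF₀ hG₀ h2T hsimple d hd R hR hRodd hRn hR1 hRab hminR
  exact false_of_inertia hS₀ h2₀ hF₀ hG₀ hIH hsimple hd hR hRodd hRn hR1 hRab hH1
    (H10.SECount.inertiaStep G Ω S₀ C hIH hS₀ h2₀ hF₀ hG₀ h2T hsimple d hd R hR hRodd hRn hR1 hRab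
      hminR hH1)

/-- The relative statement for all groups. -/
theorem coreAt_all (h1 : H1All.{u}) :
    ∀ (n : ℕ) (G : Type u) [Group G] [Finite G] (Ω : Type u) [MulAction G Ω] [Finite Ω]
      (S : Subgroup G) (C : Set Ω), Nat.card S = n → CoreAt S C := by
  intro n
  induction n using Nat.strong_induction_on with
  | _ n ih =>
  intro G _ _ Ω _ _ S C hn hS hr hG c hc W hW hWodd hWn
  by_cases hF : kernel S C = ⊥
  · rw [eq_bot_of_coreAll h1 (fun G' _ _ Ω' _ _ T C' hlt => ih _ (hn ▸ hlt) G' Ω' T C' rfl)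
      hS hr hF hG hc hW hWodd hWn]
    exact bot_le
  intro w hw
  have hWS : W ≤ S := fun x hx => (mem_ptStab.mp (hW hx)).1
  set I := Image hS with hI
  set W' : Subgroup (Equiv.Perm C) := (W.subgroupOf S).map (cPerm hS) with hW'
  have hlt : Nat.card I < n := by
    rw [← hn, ← card_image_mul hS]
    exact lt_mul_of_one_lt_right Nat.card_pos ((Subgroup.one_lt_card_iff_ne_bot _).mpr hF)
  have hW'le : W' ≤ ptStab I (⟨c, hc⟩ : C) := by
    rintro _ ⟨g, hg, rfl⟩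
    exact mem_ptStab.mpr ⟨⟨g, rfl⟩, Subtype.ext (mem_ptStab.mp (hW (mem_subgroupOf.mp hg))).2⟩
  have hW'odd : Odd (Nat.card W') := by
    refine Odd.of_dvd_nat ?_ (Subgroup.card_map_dvd _ (cPerm hS))
    rwa [Nat.card_congr (subgroupOfEquivOfLe hWS).toEquiv]
  have hnorm : ∀ g ∈ ptStab I (⟨c, hc⟩ : C), ∀ k ∈ W', g * k * g⁻¹ ∈ W' := by
    intro g hg k hk
    obtain ⟨⟨g, rfl⟩, hgc⟩ := mem_ptStab.mp hg
    obtain ⟨k, hk, rfl⟩ := hk
    refine ⟨g * k * g⁻¹, mem_subgroupOf.mpr ?_, by simp⟩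
    exact (Subgroup.mem_normalizer_iff.mp (hWn (mem_ptStab.mpr ⟨g.2, congrArg Subtype.val hgc⟩))
      (k : G)).mp (mem_subgroupOf.mp hk)
  have hW'n : ptStab I (⟨c, hc⟩ : C) ≤ normalizer (W' : Set (Equiv.Perm C)) := fun g hg =>
    Subgroup.mem_normalizer_iff.mpr fun k => ⟨hnorm g hg k, fun h => by
      have h' := hnorm g⁻¹ (inv_mem hg) _ h
      simpa [mul_assoc] using h'⟩
  have h := ih _ hlt (Equiv.Perm C) C I Set.univ rfl (se_image hS) (rankTwo_image hS hr)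
    (good_image H73.Bender.main hS hr) (⟨c, hc⟩ : C) (Set.mem_univ _) W' hW'le hW'odd hW'n
    ⟨⟨w, hWS hw⟩, mem_subgroupOf.mpr hw, rfl⟩
  rw [faithful_image hS, mem_bot] at h
  exact (cPerm_eq_one_iff hS _).mp h

/-- The odd core theorem from the first half. -/
theorem map_oddCore_le_of_h1 {G : Type u} [Group G] [Finite G] (h1 : H1All.{u}) (H : Subgroup G)
    (hH : Cfsg.IsStronglyEmbedded H) :
    (Cfsg.oddCore ↥H).map H.subtype ≤ Cfsg.oddCore G :=
  map_oddCore_le_of_coreAt H73.Bender.main (coreAt_all h1) H hH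

end Cfsg.Agent.H62.Bender
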